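/-
The norm-one Singer torus of `SL_3` and its normaliser.
-/
import Cfsg.Agent.Lib.MaxSub.ElusiveSinger

set_option autoImplicit false
set_option maxHeartbeats 800000
set_option linter.unusedSectionVars false

namespace CfsgLib.MaxSub.SLThree.Cubic

open Matrix Module Cfsg Cfsg.Geo

variable {F : Type*} [Field F] [Fintype F]

local notation "SL" => Matrix.SpecialLinearGroup (Fin 3) F
local notation "Mn" => Matrix (Fin 3) (Fin 3) F

/-- The elements of the subalgebra in the special linear group. -/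
def T (K : Subalgebra F Mn) : Subgroup SL where
  carrier := {g | g.1 ∈ K}
  one_mem' := K.one_mem
  mul_mem' ha hb := K.mul_mem ha hb
  inv_mem' {g} hg := by
    have e : g⁻¹ = g ^ (orderOf g - 1) := inv_eq_of_mul_eq_one_right (by
      rw [← pow_succ', Nat.sub_add_cancel (orderOf_pos g), pow_orderOf_eq_one])
    show (g⁻¹).1 ∈ K
    rw [e, Matrix.SpecialLinearGroup.coe_pow]
    exact pow_mem hg _

/-- The normaliser, inside the special linear group. -/
def NS (K : Subalgebra F Mn) : Subgroup SL :=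
  (subalgebraNormalizer K).comap Matrix.SpecialLinearGroup.toGL

theorem mem_NS {K : Subalgebra F Mn} {g : SL} :
    g ∈ NS K ↔ ∀ k : Mn, k ∈ K ↔ g.1 * k * (g⁻¹).1 ∈ K := by
  have e : ((Matrix.SpecialLinearGroup.toGL g)⁻¹ : GL (Fin 3) F) =
      Matrix.SpecialLinearGroup.toGL g⁻¹ := (map_inv _ g).symm
  show (∀ k : Mn, k ∈ K ↔ _ * k * (((Matrix.SpecialLinearGroup.toGL g)⁻¹ : GL (Fin 3) F) : Mn) ∈ K) ↔ _
  rw [e]
  rfl

theorem val_inv_mul (g : SL) : (g⁻¹).1 * g.1 = 1 := congrArg Subtype.val (inv_mul_cancel g)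

theorem val_mul_inv (g : SL) : g.1 * (g⁻¹).1 = 1 := congrArg Subtype.val (mul_inv_cancel g)

theorem mem_center_of_scalar {g : SL} {c : F} (hg : g.1 = c • (1 : Mn)) :
    g ∈ Subgroup.center SL := by
  rw [Subgroup.mem_center_iff]
  intro x
  apply Subtype.ext
  show x.1 * g.1 = g.1 * x.1
  rw [hg, Matrix.mul_smul, Matrix.smul_mul, Matrix.mul_one, Matrix.one_mul]

theorem scalar_of_mem_center {g : SL} (hg : g ∈ Subgroup.center SL) : ∃ c : F, g.1 = c • (1 : Mn) := by
  obtain ⟨c, -, hc⟩ := Matrix.SpecialLinearGroup.mem_center_iff.1 hg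
  refine ⟨c, hc.symm.trans ?_⟩
  ext i j
  simp [Matrix.scalar_apply, Matrix.diagonal_apply, Matrix.one_apply]

theorem center_le_T (K : Subalgebra F Mn) : Subgroup.center SL ≤ T K := fun g hg => by
  obtain ⟨c, hc⟩ := scalar_of_mem_center hg
  show g.1 ∈ K
  rw [hc]
  exact K.smul_mem K.one_mem c

variable {K : Subalgebra F (Matrix (Fin 3) (Fin 3) F)}

theorem mem_of_comm (hK : IsFieldSubalgebra 3 K) {x : Mn} (hx : ∀ b ∈ K, x * b = b * x) : x ∈ K := by
  let v0 : Fin 3 → F := Pi.single 0 1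
  obtain ⟨φ, hφ⟩ := Elusive.exists_coord hK (show v0 ≠ 0 by simp [v0])
  have ha : (φ.symm (x *ᵥ v0)).1 *ᵥ v0 = x *ᵥ v0 := by rw [← hφ, LinearEquiv.apply_symm_apply]
  have : x = (φ.symm (x *ᵥ v0)).1 := by
    apply Matrix.toLin'.injective
    refine LinearMap.ext fun u => ?_
    obtain ⟨b, rfl⟩ := φ.surjective u
    rw [Matrix.toLin'_apply, Matrix.toLin'_apply, hφ, Matrix.mulVec_mulVec, hx b b.2,
      ← Matrix.mulVec_mulVec, ← ha, Matrix.mulVec_mulVec, Matrix.mulVec_mulVec, ha,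
      hK.comm b b.2 _ (φ.symm (x *ᵥ v0)).2]
  rw [this]
  exact Subtype.mem _

theorem comm_all (hK : IsFieldSubalgebra 3 K) {t x : Mn} (ht : t ∈ K) (hns : ∀ c : F, t ≠ c • (1 : Mn))
    (hx : x * t = t * x) : ∀ b ∈ K, x * b = b * x := by
  letI : Field ↥K := (Elusive.isField_of_fieldSubalgebra hK (by norm_num)).toField
  have hp : (finrank F ↥K).Prime := by rw [hK.finrank_eq]; norm_num
  set S := (Subalgebra.centralizer F ({x} : Set Mn)).comap K.val
  rcases (Subalgebra.isSimpleOrder_of_finrank_prime F ↥K hp).eq_bot_or_eq_top S with h | h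
  · have : (⟨t, ht⟩ : ↥K) ∈ S := by
      rw [Subalgebra.mem_comap, Subalgebra.mem_centralizer_iff]
      rintro _ rfl
      exact hx
    rw [h, Algebra.mem_bot] at this
    obtain ⟨c, hc⟩ := this
    refine absurd ?_ (hns c)
    have := congrArg Subtype.val hc.symm
    rw [Subalgebra.coe_algebraMap, Algebra.algebraMap_eq_smul_one] at this
    exact this
  · intro b hb
    have : (⟨b, hb⟩ : ↥K) ∈ S := h ▸ Algebra.mem_top
    rw [Subalgebra.mem_comap, Subalgebra.mem_centralizer_iff] at this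
    exact this x rfl

theorem exists_det (hK : IsFieldSubalgebra 3 K) {c : F} (hc : c ≠ 0) :
    ∃ a ∈ K, (a : Mn).det = c ∧ a ≠ 0 := by
  letI : Field ↥K := (Elusive.isField_of_fieldSubalgebra hK (by norm_num)).toField
  haveI : Finite ↥K := Finite.of_injective _ Subtype.val_injective
  obtain ⟨φ, hφ⟩ := Elusive.exists_coord hK (show (Pi.single 0 1 : Fin 3 → F) ≠ 0 by simp)
  obtain ⟨u, hu⟩ := FiniteField.unitsMap_norm_surjective F ↥K (Units.mk0 c hc)
  have hu' : Algebra.norm F (u : ↥K) = c := congrArg Units.val hu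
  refine ⟨_, (u : ↥K).2, ?_, fun h => u.ne_zero (Subtype.ext h)⟩
  rw [← hu', Algebra.norm_apply, ← LinearMap.det_conj _ φ, ← LinearMap.det_toLin']
  congr 1
  refine LinearMap.ext fun v => ?_
  obtain ⟨b, rfl⟩ := φ.surjective v
  rw [LinearMap.comp_apply, LinearMap.comp_apply, LinearEquiv.coe_coe, LinearEquiv.coe_coe,
    LinearEquiv.symm_apply_apply, Matrix.toLin'_apply, Algebra.coe_lmul_eq_mul, LinearMap.mul_apply',
    hφ, hφ, Subalgebra.coe_mul, Matrix.mulVec_mulVec]

theorem det_ne_zero (hK : IsFieldSubalgebra 3 K) {a : Mn} (ha : a ∈ K) (h0 : a ≠ 0) : a.det ≠ 0 := by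
  obtain ⟨y, -, hay⟩ := hK.inv a ha h0
  intro h
  have := congrArg Matrix.det hay
  rw [Matrix.det_mul, h, zero_mul, Matrix.det_one] at this
  exact zero_ne_one this

theorem card_T (hK : IsFieldSubalgebra 3 K) :
    Nat.card (T K) = Fintype.card F ^ 2 + Fintype.card F + 1 := by
  classical
  letI : Field ↥K := (Elusive.isField_of_fieldSubalgebra hK (by norm_num)).toField
  let N : (↥K)ˣ →* Fˣ := Units.map
    { toFun := fun a : ↥K => (a : Mn).det, map_one' := by simp, map_mul' := fun a b => by simp }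
  have hker : Nat.card N.ker = Nat.card (T K) := by
    refine Nat.card_eq_of_bijective (fun u => ⟨⟨((u.1 : ↥K) : Mn), congrArg Units.val
      (MonoidHom.mem_ker.1 u.2)⟩, (u.1 : ↥K).2⟩) ⟨fun u v h => ?_, fun g => ?_⟩
    · exact Subtype.ext (Units.ext (Subtype.ext (congrArg (fun z : T K => z.1.1) h)))
    · have h0 : (⟨g.1.1, g.2⟩ : ↥K) ≠ 0 := fun h => by
        have := congrArg (fun z : ↥K => (z : Mn).det) h
        simp [g.1.2] at this
      exact ⟨⟨Units.mk0 _ h0, MonoidHom.mem_ker.2 (Units.ext g.1.2)⟩, rfl⟩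
  have hsurj : N.range = ⊤ := MonoidHom.range_eq_top.2 fun c => by
    obtain ⟨a, ha, had, ha0⟩ := exists_det hK c.ne_zero
    exact ⟨Units.mk0 ⟨a, ha⟩ (fun h => ha0 (congrArg Subtype.val h)), Units.ext had⟩
  have h := N.ker.card_mul_index
  rw [Subgroup.index_ker, hsurj, Subgroup.card_top, hker, Nat.card_units, Nat.card_units,
    Module.natCard_eq_pow_finrank (K := F) (V := ↥K), hK.finrank_eq, Nat.card_eq_fintype_card (α := F)] at h
  have h2 := Fintype.one_lt_card (α := F)
  refine Nat.eq_of_mul_eq_mul_right (m := Fintype.card F - 1) (by omega) (h.trans ?_)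
  zify [Nat.one_le_pow 3 _ (by omega : 0 < Fintype.card F), h2.le]
  ring

theorem T_le_NS (hK : IsFieldSubalgebra 3 K) : T K ≤ NS K := fun g hg => by
  rw [mem_NS]
  intro k
  have hgi : (g⁻¹).1 ∈ K := inv_mem hg
  refine ⟨fun hk => K.mul_mem (K.mul_mem hg hk) hgi, fun h => ?_⟩
  have := K.mul_mem (K.mul_mem hgi h) hg
  rwa [← mul_assoc, ← mul_assoc, val_inv_mul, one_mul, mul_assoc, val_inv_mul, mul_one] at this

theorem card_NS (hK : IsFieldSubalgebra 3 K) :
    Nat.card (NS K) = 3 * Nat.card (T K) ∧ ∀ g ∈ NS K, g ^ 3 ∈ T K := by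
  classical
  letI : Field ↥K := (Elusive.isField_of_fieldSubalgebra hK (by norm_num)).toField
  haveI : Finite ↥K := Finite.of_injective _ Subtype.val_injective
  haveI : FiniteDimensional F ↥K := Module.Finite.of_finite
  let fwd : NS K → ↥K → ↥K := fun g a =>
    ⟨g.1.1 * a.1 * (g.1⁻¹).1, (mem_NS.1 g.2 a.1).1 a.2⟩
  let ψ : NS K →* (↥K →ₐ[F] ↥K) :=
    { toFun := fun g =>
        { toFun := fwd g
          map_one' := Subtype.ext (by
            show g.1.1 * 1 * (g.1⁻¹).1 = 1
            rw [mul_one, val_mul_inv])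
          map_mul' := fun a b => Subtype.ext (by
            show g.1.1 * (a.1 * b.1) * (g.1⁻¹).1 = g.1.1 * a.1 * (g.1⁻¹).1 * (g.1.1 * b.1 * (g.1⁻¹).1)
            simp only [mul_assoc]
            rw [← mul_assoc (g.1⁻¹).1 g.1.1, val_inv_mul, one_mul])
          map_zero' := Subtype.ext (by simp [fwd])
          map_add' := fun a b => Subtype.ext (by simp [fwd, Matrix.mul_add, Matrix.add_mul])
          commutes' := fun c => Subtype.ext (by
            show g.1.1 * algebraMap F Mn c * (g.1⁻¹).1 = algebraMap F Mn c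
            rw [← Algebra.commutes, mul_assoc, val_mul_inv, mul_one]) }
      map_one' := AlgHom.ext fun a => Subtype.ext (by simp [fwd])
      map_mul' := fun g h => AlgHom.ext fun a => Subtype.ext (by
        show (g.1 * h.1).1 * a.1 * ((g.1 * h.1)⁻¹).1 =
          g.1.1 * (h.1.1 * a.1 * (h.1⁻¹).1) * (g.1⁻¹).1
        rw [_root_.mul_inv_rev, Matrix.SpecialLinearGroup.coe_mul, Matrix.SpecialLinearGroup.coe_mul]
        simp only [mul_assoc]) }
  have hinj : ∀ g : NS K, ψ g = 1 ↔ g.1 ∈ T K := fun g => by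
    constructor
    · intro h
      refine mem_of_comm hK fun b hb => ?_
      have := congrArg (fun f : ↥K →ₐ[F] ↥K => (f ⟨b, hb⟩).1) h
      change g.1.1 * b * (g.1⁻¹).1 = b at this
      conv_rhs => rw [← this]
      rw [mul_assoc, mul_assoc, val_inv_mul, mul_one]
    · intro h
      refine AlgHom.ext fun a => Subtype.ext ?_
      show g.1.1 * a.1 * (g.1⁻¹).1 = a.1
      rw [hK.comm _ h _ a.2, mul_assoc, val_mul_inv, mul_one]
  let ψ' : NS K →* (↥K ≃ₐ[F] ↥K) :=
    (algEquivEquivAlgHom F ↥K).symm.toMonoidHom.comp ψ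
  have hker : ψ'.ker = (T K).subgroupOf (NS K) := by
    ext g
    rw [MonoidHom.mem_ker, Subgroup.mem_subgroupOf, ← hinj g]
    exact MulEquiv.map_eq_one_iff (algEquivEquivAlgHom F ↥K).symm
  have h3 : Nat.card (↥K ≃ₐ[F] ↥K) = 3 := by rw [IsGalois.card_aut_eq_finrank, hK.finrank_eq]
  haveI : Fact (Nat.Prime 3) := ⟨by norm_num⟩
  obtain ⟨Y, w, v, hY3, hli, hv, hYv, hg⟩ := Elusive.exists_frobenius hK (by norm_num)
  set A : Mn := LinearMap.toMatrix' Y with hA
  have hA3 : A ^ 3 = 1 := by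
    rw [hA]
    show (LinearMap.toMatrixAlgEquiv' Y) ^ 3 = 1
    rw [← map_pow, hY3, map_one]
  have hAd : A.det ≠ 0 := fun h => by
    have := congrArg Matrix.det hA3
    simp [Matrix.det_pow, h] at this
  obtain ⟨a, ha, had, ha0⟩ := exists_det hK (inv_ne_zero hAd)
  let s : SL := ⟨a * A, by rw [Matrix.det_mul, had, inv_mul_cancel₀ hAd]⟩
  obtain ⟨y, hy, hay⟩ := hK.inv a ha ha0
  have hya : y * a = 1 := (hK.comm y hy a ha).trans hay
  have hsN : s ∈ NS K := by
    let ga : GL (Fin 3) F := ⟨a, y, hay, hya⟩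
    let gA : GL (Fin 3) F := Matrix.GeneralLinearGroup.mkOfDetNeZero A hAd
    have hga : ga ∈ subalgebraNormalizer K := fun k =>
      ⟨fun hk => K.mul_mem (K.mul_mem ha hk) hy, fun h => by
        have := K.mul_mem (K.mul_mem hy h) ha
        change y * (a * k * y) * a ∈ K at this
        rwa [← mul_assoc, ← mul_assoc, hya, one_mul, mul_assoc, hya, mul_one] at this⟩
    show Matrix.SpecialLinearGroup.toGL s ∈ subalgebraNormalizer K
    rw [show Matrix.SpecialLinearGroup.toGL s = ga * gA from Units.ext rfl]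
    exact Subgroup.mul_mem _ hga (hg gA rfl)
  have hsT : s ∉ T K := fun h => by
    have hAK : A ∈ K := by
      have := K.mul_mem hy h
      change y * (a * A) ∈ K at this
      rwa [← mul_assoc, hya, one_mul] at this
    have h1 : A - 1 = 0 := by
      by_contra hne
      exact hv (Elusive.nonzero_mem_injective hK (K.sub_mem hAK K.one_mem) hne (by
        rw [Matrix.sub_mulVec, Matrix.one_mulVec, hA, ← Matrix.toLin'_apply,
          Matrix.toLin'_toMatrix', hYv, sub_self]))
    have hYw : Y w = w := by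
      rw [← Matrix.toLin'_toMatrix' Y, ← hA, sub_eq_zero.1 h1, Matrix.toLin'_one]; rfl
    have := hli.injective (a₁ := 0) (a₂ := 1) (by simp [hYw])
    exact absurd this (by decide)
  have hne : Nat.card ψ'.range ≠ 1 := fun h => hsT (by
    have hb := Subgroup.card_eq_one.1 h
    have : (⟨s, hsN⟩ : NS K) ∈ ψ'.ker :=
      MonoidHom.mem_ker.2 (Subgroup.mem_bot.1 (hb ▸ MonoidHom.mem_range.2 ⟨_, rfl⟩))
    rwa [hker, Subgroup.mem_subgroupOf] at this)
  have hr : Nat.card ψ'.range = 3 :=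
    ((Nat.prime_def.1 (by norm_num : Nat.Prime 3)).2 _ ((Subgroup.card_subgroup_dvd_card _).trans (dvd_of_eq h3))).resolve_left hne
  refine ⟨?_, fun g hg => ?_⟩
  · have h := ψ'.ker.card_mul_index
    rw [Subgroup.index_ker, hr, hker,
      Nat.card_congr (Subgroup.subgroupOfEquivOfLe (T_le_NS hK)).toEquiv] at h
    rw [← h, mul_comm]
  · have : (⟨g, hg⟩ : NS K) ^ 3 ∈ ψ'.ker := by
      have h1 := pow_card_eq_one' (x := ψ' ⟨g, hg⟩)
      rw [h3] at h1
      rw [MonoidHom.mem_ker, map_pow, h1]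
    rwa [hker, Subgroup.mem_subgroupOf] at this

/-- Distinct conjugates of the torus meet in scalars. -/
theorem mem_NS_of_conj (hK : IsFieldSubalgebra 3 K) {t g : SL} (ht : t ∈ T K)
    (htz : t ∉ Subgroup.center SL) (hg : g⁻¹ * t * g ∈ T K) : g ∈ NS K := by
  have key : ∀ (g t : SL), t ∈ T K → t ∉ Subgroup.center SL → g⁻¹ * t * g ∈ T K →
      ∀ k ∈ K, (g⁻¹).1 * k * g.1 ∈ K := by
    intro g t ht htz hg k hk
    refine mem_of_comm hK (comm_all hK (t := (g⁻¹ * t * g).1) hg (fun c hc => htz ?_) ?_)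
    · have := (Subgroup.center SL).normal_of_characteristic.conj_mem _ (mem_center_of_scalar hc) g
      simpa [mul_assoc] using this
    · show (g⁻¹).1 * k * g.1 * ((g⁻¹).1 * t.1 * g.1) = (g⁻¹).1 * t.1 * g.1 * ((g⁻¹).1 * k * g.1)
      simp only [mul_assoc]
      rw [← mul_assoc g.1 (g⁻¹).1, val_mul_inv, one_mul, ← mul_assoc g.1 (g⁻¹).1, val_mul_inv,
        one_mul, ← mul_assoc k, hK.comm k hk t.1 ht, mul_assoc]
  have hz' : g⁻¹ * t * g ∉ Subgroup.center SL := fun h => htz (by
    have := (inferInstance : (Subgroup.center SL).Normal).conj_mem _ h g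
    simpa [mul_assoc] using this)
  have h2 := key g⁻¹ _ hg hz' (by simpa [mul_assoc] using ht)
  rw [mem_NS]
  refine fun k => ⟨fun hk => by simpa using h2 k hk, fun h => ?_⟩
  have := key g t ht htz hg _ h
  rwa [← mul_assoc, ← mul_assoc, val_inv_mul, one_mul, mul_assoc, val_inv_mul, mul_one] at this

theorem pow_three_not_center (hK : IsFieldSubalgebra 3 K) {t : SL} (ht : t ∈ T K)
    (htz : t ∉ Subgroup.center SL) : t ^ 3 ∉ Subgroup.center SL := by
  intro h3
  set C := (Subgroup.center SL).subgroupOf (T K)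
  haveI : C.Normal := inferInstance
  have hci := C.card_mul_index
  rw [card_T hK, Nat.card_congr (Subgroup.subgroupOfEquivOfLe (center_le_T K)).toEquiv,
    CfsgLib.SLCard.card_SL_center (by norm_num)] at hci
  have hpow : (⟨t, ht⟩ : T K) ^ C.index ∈ C := C.pow_index_mem _
  have h3' : (⟨t, ht⟩ : T K) ^ 3 ∈ C := Subgroup.mem_subgroupOf.2 h3
  refine htz (Subgroup.mem_subgroupOf.1 (show (⟨t, ht⟩ : T K) ∈ C from ?_))
  have hcop : Nat.Coprime 3 C.index := by
    rw [Nat.Prime.coprime_iff_not_dvd (by norm_num)]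
    intro hd
    obtain ⟨c, hc⟩ := hd
    set q := Fintype.card F
    have hq := Fintype.one_lt_card (α := F)
    have hsplit : q % 3 = 1 ∨ q % 3 ≠ 1 := em _
    rcases hsplit with h1 | h1
    · have hg : Nat.gcd 3 (q - 1) = 3 := Nat.gcd_eq_left (by omega)
      rw [hg, hc] at hci
      obtain ⟨r, hr⟩ : ∃ r, q = 3 * r + 1 := ⟨q / 3, by omega⟩
      rw [hr] at hci
      ring_nf at hci
      omega
    · have hg : Nat.gcd 3 (q - 1) = 1 := (Nat.Prime.coprime_iff_not_dvd (by norm_num)).2 (by omega)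
      rw [hg, hc, one_mul] at hci
      have h3q : (q ^ 2 + q + 1) % 3 = 0 := by omega
      rw [Nat.add_mod, Nat.add_mod (q ^ 2), Nat.pow_mod] at h3q
      rcases (show q % 3 = 0 ∨ q % 3 = 2 by omega) with e | e <;> simp [e] at h3q
  obtain ⟨a, b, hab⟩ : ∃ a b : ℤ, (3 : ℕ) * a + (C.index : ℕ) * b = 1 :=
    ⟨_, _, ((Nat.gcd_eq_gcd_ab 3 C.index).symm.trans (by rw [hcop]; rfl))⟩
  have : (⟨t, ht⟩ : T K) ^ ((3 : ℕ) * a + (C.index : ℕ) * b : ℤ) ∈ C := by
    rw [_root_.zpow_add, _root_.zpow_mul, _root_.zpow_mul, _root_.zpow_natCast, _root_.zpow_natCast]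
    exact mul_mem (zpow_mem h3' _) (zpow_mem hpow _)
  rwa [hab, zpow_one] at this

/-- Overgroups of the normaliser. -/
theorem index_modEq (hK : IsFieldSubalgebra 3 K) {M : Subgroup SL} (hM : NS K ≤ M) :
    ((NS K).subgroupOf M).index ≡ 1 [MOD ((Subgroup.center SL).subgroupOf (T K)).index] := by
  classical
  set A := (T K).subgroupOf M with hAdef
  set B := (NS K).subgroupOf M with hBdef
  set X := ↥M ⧸ B
  haveI : Finite X := inferInstance
  let e := MulAction.selfEquivSigmaOrbitsQuotientStabilizer A X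
  have hfix : ∀ x : X, ∀ a : A, a • x = x → a.1.1 ∉ Subgroup.center SL → x = ((1 : M) : X) := by
    intro x a hax haz
    obtain ⟨g, rfl⟩ := QuotientGroup.mk_surjective x
    have h1 : (a.1 * g)⁻¹ * g ∈ B := QuotientGroup.eq.1 hax
    have h2 : g.1⁻¹ * a.1.1 * g.1 ∈ NS K := by
      have := inv_mem (Subgroup.mem_subgroupOf.1 h1)
      simpa [mul_assoc] using this
    have h3 := (card_NS hK).2 _ h2
    rw [show (g.1⁻¹ * a.1.1 * g.1) ^ 3 = g.1⁻¹ * a.1.1 ^ 3 * g.1 by simp [pow_succ, mul_assoc]] at h3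
    have := mem_NS_of_conj hK (pow_mem (Subgroup.mem_subgroupOf.1 a.2) 3)
      (pow_three_not_center hK (Subgroup.mem_subgroupOf.1 a.2) haz) h3
    rw [eq_comm, QuotientGroup.eq, inv_one, one_mul]
    exact Subgroup.mem_subgroupOf.2 this
  have hcent : ∀ x : X, ∀ a : A, a.1.1 ∈ Subgroup.center SL → a • x = x := by
    intro x a haz
    obtain ⟨g, rfl⟩ := QuotientGroup.mk_surjective x
    show ((a.1 * g : M) : X) = (g : X)
    rw [QuotientGroup.eq]
    refine Subgroup.mem_subgroupOf.2 ?_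
    show (a.1.1 * g.1)⁻¹ * g.1 ∈ NS K
    rw [← (Subgroup.mem_center_iff.1 haz g.1), _root_.mul_inv_rev, mul_assoc, inv_mul_cancel, mul_one]
    exact inv_mem (T_le_NS hK (Subgroup.mem_subgroupOf.1 a.2))
  set m := ((Subgroup.center SL).subgroupOf (T K)).index with hm
  have hstab : ∀ x : X, x ≠ ((1 : M) : X) → (MulAction.stabilizer A x).index = m := by
    intro x hx
    let eA : A ≃* T K := Subgroup.subgroupOfEquivOfLe ((T_le_NS hK).trans hM)
    rw [hm, ← Subgroup.index_comap_of_surjective _ (f := eA.toMonoidHom) eA.surjective]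
    congr 1
    ext a
    rw [MulAction.mem_stabilizer_iff, Subgroup.mem_comap, Subgroup.mem_subgroupOf]
    exact ⟨fun h => by_contra fun hz => hx (hfix x a h hz), hcent x a⟩
  have hbase : ∀ a : A, a • ((1 : M) : X) = ((1 : M) : X) := fun a => by
    show ((a.1 * 1 : M) : X) = _
    rw [QuotientGroup.eq, mul_one, mul_one]
    exact inv_mem (Subgroup.mem_subgroupOf.2 (T_le_NS hK (Subgroup.mem_subgroupOf.1 a.2)))
  haveI : Fintype (MulAction.orbitRel.Quotient A X) := Fintype.ofFinite _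
  set ω0 : MulAction.orbitRel.Quotient A X := Quotient.mk'' ((1 : M) : X)
  have hout : ω0.out = ((1 : M) : X) := by
    obtain ⟨a, ha⟩ := MulAction.orbitRel_apply.1 (Quotient.eq''.1 (Quotient.out_eq' ω0))
    exact ha.symm.trans (hbase a)
  rw [Subgroup.index, Nat.card_congr e, Nat.card_sigma, ← Finset.add_sum_erase _ _ (Finset.mem_univ ω0)]
  have h0 : Nat.card (A ⧸ MulAction.stabilizer A ω0.out) = 1 := by
    rw [hout, ← Subgroup.index, Subgroup.index_eq_one]
    exact eq_top_iff.2 fun a _ => hbase a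
  rw [h0, Finset.sum_congr rfl fun ω hω => (show Nat.card (A ⧸ MulAction.stabilizer A ω.out) = m from
    hstab _ fun he => (Finset.mem_erase.1 hω).1 (by
      rw [← Quotient.out_eq' ω, he])), Finset.sum_const, smul_eq_mul]
  exact (Nat.modEq_iff_dvd' (by omega)).2 ⟨_, (Nat.add_sub_cancel_left _ _).trans (mul_comm _ _)⟩ |>.symm

end CfsgLib.MaxSub.SLThree.Cubic
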