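/-
The arithmetic behind the maximality of cubic-field normalisers in `SL_3`.
-/
import Mathlib

set_option autoImplicit false
set_option maxHeartbeats 1000000

namespace CfsgLib.MaxSub.SLThree.Cubic

theorem solve_one {q k l : ℤ} (hq : 2 ≤ q) (hk : 1 ≤ k) (hl : 1 ≤ l)
    (h : 3 * (k * l * (q ^ 2 + q + 1) + k + l) = q ^ 4 - 2 * q ^ 3 + 3 * q - 3) :
    k = q - 1 ∨ 3 * k = q - 2 := by
  set j := q ^ 2 - 3 * q + 2 - 3 * (k * l) with hj
  have e1 : 3 * (k + l) = 4 * q - 5 + j * (q ^ 2 + q + 1) := by rw [hj]; linear_combination h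
  have hkl : 0 ≤ (k - 1) * (l - 1) := mul_nonneg (by linarith) (by linarith)
  have hj0 : j = 0 := by
    rcases lt_trichotomy j 0 with hlt | heq | hgt
    · nlinarith [mul_nonneg (show (0 : ℤ) ≤ -j - 1 by omega) (show (0 : ℤ) ≤ q ^ 2 + q + 1 by nlinarith),
        sq_nonneg (q - 2)]
    · exact heq
    · nlinarith [mul_nonneg (show (0 : ℤ) ≤ j - 1 by omega) (show (0 : ℤ) ≤ q ^ 2 + q + 2 by nlinarith)]
  have e2 : (3 * k - (q - 2)) * (k - (q - 1)) = 0 := by
    rw [hj0] at e1
    linear_combination k * e1 + (hj.symm.trans hj0)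
  rcases mul_eq_zero.1 e2 with e | e
  · right; linarith
  · left; linarith

theorem small_cases : ∀ q : Fin 150, ∀ j : Fin 9, ∀ k : Fin 18, 2 ≤ q.val → 1 ≤ j.val → 1 ≤ k.val →
    k.val * (12 * q.val + j.val * (q.val * q.val + q.val + 1)) + 27 * q.val + 3 * j.val =
      15 * k.val + 3 * k.val * k.val + 9 * q.val * q.val + 18 →
    q.val = 2 ∨ q.val = 4 ∨ q.val = 10 := by
  decide +kernel

theorem solve_three {q m k l : ℤ} (hq : 2 ≤ q) (hq4 : q ≠ 4) (hq10 : q ≠ 10) (hm : 3 * m = q ^ 2 + q + 1)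
    (hk : 1 ≤ k) (hl : 1 ≤ l) (h : k * l * m + k + l = q ^ 4 - 2 * q ^ 3 + 3 * q - 3) :
    k = 3 * (q - 1) ∨ k = q - 2 := by
  set j := 3 * (q ^ 2 - 3 * q + 2) - k * l with hj
  have e1 : k + l = 4 * q - 5 + j * m := by rw [hj]; linear_combination h - (q ^ 2 - 3 * q + 2) * hm
  have hkl : 0 ≤ (k - 1) * (l - 1) := mul_nonneg (by linarith) (by linarith)
  have hm0 : 1 ≤ m := by nlinarith
  rcases lt_trichotomy j 0 with hlt | heq | hgt
  · exfalso
    have h1 : j * m ≤ -m := by nlinarith [mul_nonneg (show (0 : ℤ) ≤ -j - 1 by omega) (show (0 : ℤ) ≤ m by omega)]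
    by_cases hbig : 10 ≤ q
    · nlinarith
    · interval_cases q <;> first | omega | nlinarith [sq_nonneg (k - l)]
  · have e2 : (k - 3 * (q - 1)) * (k - (q - 2)) = 0 := by
      rw [heq] at e1
      linear_combination k * e1 + (hj.symm.trans heq)
    rcases mul_eq_zero.1 e2 with e | e
    · left; linarith
    · right; linarith
  · exfalso
    have hj8 : j ≤ 8 := by
      by_contra hn
      nlinarith [mul_nonneg (show (0 : ℤ) ≤ j - 9 by omega) (show (0 : ℤ) ≤ m + 1 by omega)]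
    suffices hmain : ∀ k l : ℤ, 1 ≤ k → k ≤ l → k * l = 3 * (q ^ 2 - 3 * q + 2) - j →
        k + l = 4 * q - 5 + j * m → False by
      rcases le_total k l with hle | hle
      · exact hmain k l hk hle (by rw [hj]; ring) e1
      · exact hmain l k hl hle (by rw [hj]; ring) (by linarith)
    intro k l hk hle hprod hsum
    have h1 : k * j * m ≤ 6 * (q ^ 2 - 3 * q + 2) := by
      nlinarith [mul_nonneg (show (0 : ℤ) ≤ k by omega) (show (0 : ℤ) ≤ 4 * q - 5 by omega),
        mul_nonneg (show (0 : ℤ) ≤ k by omega) (show (0 : ℤ) ≤ l - k by omega)]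
    have hkj : k * j ≤ 17 := by
      by_contra hn
      nlinarith [mul_nonneg (show (0 : ℤ) ≤ k * j - 18 by omega) (show (0 : ℤ) ≤ m by omega)]
    have hk17 : k ≤ 17 := by nlinarith [mul_nonneg (show (0 : ℤ) ≤ k by omega) (show (0 : ℤ) ≤ j - 1 by omega)]
    have e3 : k * (12 * q + j * (q * q + q + 1)) + 27 * q + 3 * j =
        15 * k + 3 * k * k + 9 * q * q + 18 := by
      linear_combination (-3 * k) * hsum + 3 * hprod + (-k * j) * hm
    have hq150 : q < 150 := by
      by_contra hn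
      rcases le_or_gt (k * j) 8 with h8 | h9
      · nlinarith [mul_nonneg (show (0 : ℤ) ≤ 8 - k * j by omega) (mul_nonneg (show (0 : ℤ) ≤ q by omega) (show (0 : ℤ) ≤ q + 1 by omega)),
          mul_nonneg (show (0 : ℤ) ≤ q - 150 by omega) (show (0 : ℤ) ≤ q by omega),
          mul_nonneg (show (0 : ℤ) ≤ 8 - k by nlinarith) (show (0 : ℤ) ≤ q by omega)]
      · nlinarith [mul_nonneg (show (0 : ℤ) ≤ k * j - 9 by omega) (mul_nonneg (show (0 : ℤ) ≤ q by omega) (show (0 : ℤ) ≤ q + 1 by omega)),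
          mul_nonneg (show (0 : ℤ) ≤ q - 150 by omega) (show (0 : ℤ) ≤ k by omega),
          mul_nonneg (show (0 : ℤ) ≤ k by omega) (show (0 : ℤ) ≤ 17 - k by omega)]
    have := small_cases ⟨q.toNat, by omega⟩ ⟨j.toNat, by omega⟩ ⟨k.toNat, by omega⟩
      (by show 2 ≤ q.toNat; omega) (by show 1 ≤ j.toNat; omega) (by show 1 ≤ k.toNat; omega) (by
        show k.toNat * (12 * q.toNat + j.toNat * (q.toNat * q.toNat + q.toNat + 1)) + 27 * q.toNat + 3 * j.toNat =
          15 * k.toNat + 3 * k.toNat * k.toNat + 9 * q.toNat * q.toNat + 18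
        zify
        rw [Int.toNat_of_nonneg (by omega), Int.toNat_of_nonneg (by omega), Int.toNat_of_nonneg (by omega)]
        exact e3)
    simp only at this
    rcases this with e | e | e
    · obtain rfl : q = 2 := by omega
      norm_num at hm
      omega
    · omega
    · omega

/-- The possible indices over the normaliser. -/
theorem solve {q m d a b : ℕ} (hq : 2 ≤ q) (hq4 : q ≠ 4) (hq10 : q ≠ 10) (hd : d = if q % 3 = 1 then 3 else 1)
    (hm : d * m = q ^ 2 + q + 1) (hab : 3 * (a * b) = q ^ 3 * (q - 1) ^ 2 * (q + 1))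
    (ha : a ≡ 1 [MOD m]) (hb : b ≡ 1 [MOD m]) :
    a = 1 ∨ b = 1 ∨ a = q ^ 3 ∨ 3 * a = (q + 1) * (q - 1) ^ 2 := by
  have hpos : 0 < a * b := by
    rcases Nat.eq_zero_or_pos (a * b) with h0 | h0
    · rw [h0] at hab
      have : 0 < q ^ 3 * (q - 1) ^ 2 * (q + 1) :=
        Nat.mul_pos (Nat.mul_pos (pow_pos (by omega) _) (pow_pos (by omega) _)) (by omega)
      omega
    · exact h0
  have ha0 : 1 ≤ a := Nat.pos_of_mul_pos_right hpos
  have hb0 : 1 ≤ b := Nat.pos_of_mul_pos_left hpos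
  obtain ⟨k, hk⟩ := (Nat.modEq_iff_dvd' ha0).1 ha.symm
  obtain ⟨l, hl⟩ := (Nat.modEq_iff_dvd' hb0).1 hb.symm
  by_cases hk0 : k = 0
  · left; subst hk0; rw [Nat.mul_zero] at hk; omega
  by_cases hl0 : l = 0
  · right; left; subst hl0; rw [Nat.mul_zero] at hl; omega
  have habZ : (3 : ℤ) * ((1 + m * k) * (1 + m * l)) = (q : ℤ) ^ 3 * ((q : ℤ) - 1) ^ 2 * ((q : ℤ) + 1) := by
    have h := congrArg (fun n : ℕ => (n : ℤ)) hab
    rw [show a = 1 + m * k by omega, show b = 1 + m * l by omega] at h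
    push_cast [Nat.cast_sub (show 1 ≤ q by omega)] at h
    exact h
  have hmZ : (d : ℤ) * m = (q : ℤ) ^ 2 + q + 1 := by exact_mod_cast hm
  have hM0 : (0 : ℤ) < (q : ℤ) ^ 2 + q + 1 := by positivity
  have haeq : a = 1 + m * k := by omega
  split_ifs at hd with h3 <;> subst hd
  · push_cast at hmZ
    have he : (k : ℤ) * l * m + k + l = (q : ℤ) ^ 4 - 2 * q ^ 3 + 3 * q - 3 :=
      mul_left_cancel₀ hM0.ne' (by linear_combination habZ - ((k : ℤ) * l * m + k + l) * hmZ)
    rcases solve_three (by omega) (by omega) (by omega) hmZ (by omega) (by omega) he with e | e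
    · right; right; left
      zify
      rw [haeq]; push_cast; rw [e]
      linear_combination ((q : ℤ) - 1) * hmZ
    · right; right; right
      zify [show 1 ≤ q by omega]
      rw [haeq]; push_cast; rw [e]
      linear_combination ((q : ℤ) - 2) * hmZ
  · push_cast at hmZ
    rw [one_mul] at hmZ
    have he : 3 * ((k : ℤ) * l * ((q : ℤ) ^ 2 + q + 1) + k + l) = (q : ℤ) ^ 4 - 2 * q ^ 3 + 3 * q - 3 :=
      mul_left_cancel₀ hM0.ne' (by rw [← hmZ]; linear_combination habZ + ((q : ℤ) ^ 4 - 2 * q ^ 3 + 3 * q - 3) * (-hmZ))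
    rcases solve_one (by omega) (by omega) (by omega) he with e | e
    · right; right; left
      zify
      rw [haeq]; push_cast; rw [e, hmZ]; ring
    · right; right; right
      zify [show 1 ≤ q by omega]
      rw [haeq]; push_cast; rw [hmZ]
      linear_combination ((q : ℤ) ^ 2 + q + 1) * e

end CfsgLib.MaxSub.SLThree.Cubic
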