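/-
Cubic-field normalisers are maximal in `SL_3`.
-/
import Cfsg.Agent.Lib.MaxSub.SLThree.Tools
import Cfsg.Agent.Lib.MaxSub.SLThree.Cubic.Torus
import Cfsg.Agent.Lib.MaxSub.SLThree.Cubic.Arith
import Cfsg.Agent.Lib.Aschbacher.Proper

set_option autoImplicit false
set_option maxHeartbeats 800000
set_option linter.unusedSectionVars false

namespace CfsgLib.MaxSub.SLThree.Cubic

open Matrix Module Cfsg Cfsg.Geo
open CfsgLib.SLCentre CfsgLib.PSLn

variable {F : Type*} [Field F] [Fintype F]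

local notation "SL" => Matrix.SpecialLinearGroup (Fin 3) F
local notation "Mn" => Matrix (Fin 3) (Fin 3) F
local notation "V" => Fin 3 → F

variable {K : Subalgebra F (Matrix (Fin 3) (Fin 3) F)} {M : Subgroup (Matrix.SpecialLinearGroup (Fin 3) F)}

/-- Index prime to the characteristic gives everything. -/
theorem eq_top_of_unipotent (hK : IsFieldSubalgebra 3 K) (hM : NS K ≤ M) {p : ℕ} [Fact p.Prime]
    [CharP F p] (hp : ¬ p ∣ M.index) : M = ⊤ := by
  let e1 : V := Pi.single 0 1
  have hdot : ∀ a : F × F, (![0, a.1, a.2] : V) ⬝ᵥ e1 = 0 := fun a => by simp [e1]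
  let f : Multiplicative (F × F) →* SL := MonoidHom.mk' (fun a => tv e1 ![0, a.toAdd.1, a.toAdd.2] (hdot _))
    fun a b => Subtype.ext (by
      show (tv e1 ![0, a.toAdd.1 + b.toAdd.1, a.toAdd.2 + b.toAdd.2] _).1 =
        (tv e1 ![0, a.toAdd.1, a.toAdd.2] _).1 * (tv e1 ![0, b.toAdd.1, b.toAdd.2] _).1
      simp only [coe_tv, Matrix.mul_add, Matrix.add_mul, Matrix.mul_one, Matrix.one_mul,
        vecMulVec_mul_vecMulVec, hdot, zero_smul, vecMulVec_zero, add_zero, add_assoc, ← vecMulVec_add]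
      congr 2
      simp)
  have hP : IsPGroup p f.range := fun x => ⟨1, by
    obtain ⟨a, ha⟩ := x.2
    apply Subtype.ext
    rw [pow_one, SubmonoidClass.coe_pow, ← ha, ← map_pow]
    have : a ^ p = 1 := by
      apply Multiplicative.toAdd.injective
      rw [toAdd_pow, toAdd_one]
      ext <;> simp
    rw [this, map_one]; rfl⟩
  obtain ⟨g, hg⟩ := exists_conj_le hP hp
  set c : V := (g⁻¹).1 *ᵥ e1 with hc
  have hfull : Full M c := fun ψ hψ => by
    set φ := ψ ᵥ* (g⁻¹).1 with hφ
    have h0 : φ ⬝ᵥ e1 = 0 := by rw [hφ, ← dotProduct_mulVec]; exact hψ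
    have hφe : φ = ![0, φ 1, φ 2] := by
      ext i; fin_cases i
      · simpa [e1] using h0
      · rfl
      · rfl
    have hm := hg _ ⟨Multiplicative.ofAdd (φ 1, φ 2), rfl⟩
    refine ⟨hψ, ?_⟩
    convert hm using 1
    apply Subtype.ext
    show (tv c ψ hψ).1 = (g⁻¹).1 * (tv e1 ![0, φ 1, φ 2] (hdot (φ 1, φ 2))).1 * g.1
    rw [coe_tv, coe_tv, Matrix.mul_add, Matrix.add_mul, Matrix.mul_one, val_inv_mul', mul_vecMulVec,
      vecMulVec_mul, ← hφe, hφ, Matrix.vecMul_vecMul, val_inv_mul', Matrix.vecMul_one]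
  have hc0 : c ≠ 0 := fun h => by
    have h' : g.1 *ᵥ c = e1 := by rw [hc, Matrix.mulVec_mulVec, val_mul_inv', Matrix.one_mulVec]
    rw [h, Matrix.mulVec_zero] at h'
    simpa [e1] using congrFun h' 0
  -- a non-scalar element of the torus
  obtain ⟨t, ht, htz⟩ : ∃ t ∈ T K, t ∉ Subgroup.center SL := by
    by_contra hn
    push Not at hn
    have h1 := Subgroup.card_le_of_le (show T K ≤ Subgroup.center SL from hn)
    rw [card_T hK, SLCard.card_SL_center (by norm_num)] at h1
    have := Nat.gcd_le_left (Fintype.card F - 1) (by norm_num : 0 < 3)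
    have := Fintype.one_lt_card (α := F)
    nlinarith
  letI : Field ↥K := (Elusive.isField_of_fieldSubalgebra hK (by norm_num)).toField
  have hp3 : (finrank F ↥K).Prime := by rw [hK.finrank_eq]; norm_num
  set S := fullSubmodule M with hS
  let St : Subalgebra F ↥K :=
    { carrier := {a | ∀ x ∈ S, (a : Mn) *ᵥ x ∈ S}
      one_mem' := fun x hx => by simpa using hx
      mul_mem' := fun {a b} ha hb x hx => by
        show ((a : Mn) * (b : Mn)) *ᵥ x ∈ S
        rw [← Matrix.mulVec_mulVec]; exact ha _ (hb x hx)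
      zero_mem' := fun x _ => by simp
      add_mem' := fun {a b} ha hb x hx => by
        show ((a : Mn) + (b : Mn)) *ᵥ x ∈ S
        rw [Matrix.add_mulVec]; exact S.add_mem (ha x hx) (hb x hx)
      algebraMap_mem' := fun r x hx => by
        show (algebraMap F Mn r) *ᵥ x ∈ S
        rw [Algebra.algebraMap_eq_smul_one, Matrix.smul_mulVec, Matrix.one_mulVec]
        exact S.smul_mem r hx }
  have htS : (⟨t.1, ht⟩ : ↥K) ∈ St := fun x hx => full_conj (hM (T_le_NS hK ht)) hx
  rcases (Subalgebra.isSimpleOrder_of_finrank_prime F ↥K hp3).eq_bot_or_eq_top St with h | h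
  · rw [h, Algebra.mem_bot] at htS
    obtain ⟨r, hr⟩ := htS
    refine absurd (mem_center_of_scalar (g := t) (c := r) ?_) htz
    have := congrArg Subtype.val hr.symm
    rwa [Subalgebra.coe_algebraMap, Algebra.algebraMap_eq_smul_one] at this
  · refine eq_top_of_full (by norm_num) (eq_top_iff.2 fun y _ => ?_)
    obtain ⟨φ, hφ⟩ := Elusive.exists_coord hK hc0
    obtain ⟨a, rfl⟩ := φ.surjective y
    rw [hφ]
    exact (show a ∈ St from h ▸ Algebra.mem_top) c hfull

/-- The exceptional index gives a polarity without absolute points. -/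
theorem false_of_small (hK : IsFieldSubalgebra 3 K) {p : ℕ} [Fact p.Prime] [CharP F p]
    (hpM : ¬ p ∣ Nat.card M)
    (hcard : Nat.card M = (Fintype.card F ^ 2 + Fintype.card F + 1) * ((Fintype.card F + 1) * (Fintype.card F - 1) ^ 2))
    {r : ℕ} [Fact r.Prime] (hr3 : r ≠ 3) (hrq : r ∣ Fintype.card F - 1) (hrM : ¬ r ∣ M.index) : False := by
  classical
  set q := Fintype.card F with hq
  have hq2 := Fintype.one_lt_card (α := F)
  obtain ⟨n, hpr, hn⟩ := FiniteField.card F p
  rw [← hq] at hn hq2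
  -- one centre
  obtain ⟨u, hu⟩ := exists_prime_orderOf_dvd_card' (G := Fˣ) r (by
    rwa [Nat.card_units, Nat.card_eq_fintype_card])
  set a : F := (u : F) with ha
  have ha0 : a ≠ 0 := u.ne_zero
  set b : F := a⁻¹ * a⁻¹ with hb
  have hab : a ≠ b := fun h => by
    have h3 : u ^ 3 = 1 := Units.ext (by
      rw [Units.val_pow_eq_pow_val, Units.val_one, ← ha]
      calc a ^ 3 = a * a * a := by ring
        _ = a * a * b := by rw [← h]
        _ = 1 := by rw [hb]; field_simp)
    exact hr3 ((Nat.prime_dvd_prime_iff_eq Fact.out (by norm_num)).1 (hu ▸ orderOf_dvd_of_pow_eq_one h3))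
  let h : SL := ⟨Matrix.diagonal ![a, a, b], by
    rw [Matrix.det_diagonal, Fin.prod_univ_three]
    show a * a * b = 1
    rw [hb]; field_simp⟩
  have hh : h ^ r = 1 := Subtype.ext (by
    rw [Matrix.SpecialLinearGroup.coe_pow, Matrix.SpecialLinearGroup.coe_one]
    show Matrix.diagonal ![a, a, b] ^ r = 1
    have har : a ^ r = 1 := by
      rw [ha, ← Units.val_pow_eq_pow_val, ← hu, pow_orderOf_eq_one, Units.val_one]
    rw [Matrix.diagonal_pow, ← Matrix.diagonal_one]
    congr 1
    ext i; fin_cases i <;> simp [Pi.pow_apply, har, hb, mul_pow, inv_pow])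
  obtain ⟨g, hg⟩ := exists_conj_le (p := r) (P := Subgroup.zpowers h) (M := M) (fun x => ⟨1, by
    obtain ⟨k, hk⟩ := x.2
    apply Subtype.ext
    rw [pow_one, SubmonoidClass.coe_pow, ← hk]
    show (h ^ k) ^ r = 1
    rw [← zpow_natCast, ← _root_.zpow_mul, mul_comm, _root_.zpow_mul, zpow_natCast, hh, _root_.one_zpow]⟩) hrM
  have hgm := hg h (Subgroup.mem_zpowers h)
  let e3 : V := Pi.single 2 1
  obtain ⟨c1, φ1, hC1⟩ : ∃ c φ : V, Cen M c φ := by
    refine ⟨(g⁻¹).1 *ᵥ e3, e3 ᵥ* g.1, ?_, g⁻¹ * h * g, hgm, a, b, hab, ?_, fun x hx => ?_⟩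
    · rw [← dotProduct_mulVec, Matrix.mulVec_mulVec, val_mul_inv', Matrix.one_mulVec]
      simp [e3]
    · show ((g⁻¹).1 * h.1 * g.1) *ᵥ ((g⁻¹).1 *ᵥ e3) = _
      rw [Matrix.mulVec_mulVec, mul_assoc, val_mul_inv', mul_one, ← Matrix.mulVec_mulVec,
        show h.1 *ᵥ e3 = b • e3 by
          ext i; fin_cases i <;> simp [h, e3, Matrix.mulVec_diagonal],
        Matrix.mulVec_smul]
    · rw [← dotProduct_mulVec] at hx
      show ((g⁻¹).1 * h.1 * g.1) *ᵥ x = _
      rw [← Matrix.mulVec_mulVec, ← Matrix.mulVec_mulVec,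
        show h.1 *ᵥ (g.1 *ᵥ x) = a • (g.1 *ᵥ x) by
          have h2 : (g.1 *ᵥ x) 2 = 0 := by simpa [e3] using hx
          ext i; fin_cases i <;> simp [h, Matrix.mulVec_diagonal, h2],
        Matrix.mulVec_smul, Matrix.mulVec_mulVec, val_inv_mul', Matrix.one_mulVec]
  -- the stabiliser of the centre
  set H := lineStab M c1 with hH
  have hHM : H ≤ M := fun x hx => hx.1
  let L : V →ₗ[F] F := dotProductEquiv F (Fin 3) φ1
  set W := LinearMap.ker L with hW
  have hmemW : ∀ x, x ∈ W ↔ φ1 ⬝ᵥ x = 0 := fun x => Iff.rfl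
  have hWr : finrank F W = 2 := by
    have h1 := LinearMap.finrank_range_add_finrank_ker L
    rw [LinearMap.range_eq_top.2 (LinearMap.surjective_iff_ne_zero.2 fun h0 => hC1.1
      (LinearMap.congr_fun h0 c1)), finrank_top, Module.finrank_self, Module.finrank_fin_fun] at h1
    show finrank F (LinearMap.ker L) = 2
    omega
  have hWinv : ∀ x : H, W ≤ W.comap (Matrix.toLin' x.1.1) := fun x y hy => by
    obtain ⟨hxM, s, hs⟩ := x.2
    have hs0 : s ≠ 0 := fun h0 => hC1.ne_zero (by
      rw [← Matrix.one_mulVec c1, ← val_inv_mul' x.1, ← Matrix.mulVec_mulVec, hs, h0, zero_smul,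
        Matrix.mulVec_zero])
    have h2 := (hC1.conj hxM).smul (inv_ne_zero hs0)
    rw [hs, smul_smul, inv_mul_cancel₀ hs0, one_smul] at h2
    show φ1 ⬝ᵥ (x.1.1 *ᵥ y) = 0
    rw [Cen.axis_unique hpM hC1 h2, ← dotProduct_mulVec, Matrix.mulVec_mulVec, val_inv_mul',
      Matrix.one_mulVec]
    exact hy
  let B := Module.finBasisOfFinrankEq F W hWr
  let ρ : H →* Matrix (Fin 2) (Fin 2) F :=
    { toFun := fun x => LinearMap.toMatrixAlgEquiv B ((Matrix.toLin' x.1.1).restrict (hWinv x))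
      map_one' := by
        rw [← map_one (LinearMap.toMatrixAlgEquiv B)]
        congr 1
        refine LinearMap.ext fun y => Subtype.ext ?_
        show (1 : Mn) *ᵥ y.1 = y.1
        rw [Matrix.one_mulVec]
      map_mul' := fun x y => by
        rw [← map_mul]
        congr 1
        refine LinearMap.ext fun z => Subtype.ext ?_
        show (x.1.1 * y.1.1) *ᵥ z.1 = x.1.1 *ᵥ (y.1.1 *ᵥ z.1)
        rw [Matrix.mulVec_mulVec] }
  have hρ : Function.Injective ρ.toHomUnits := by
    refine (injective_iff_map_eq_one _).2 fun x hx => ?_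
    have hx1 : ρ x = 1 := congrArg Units.val hx
    have hid : ∀ y, φ1 ⬝ᵥ y = 0 → x.1.1 *ᵥ y = (1 : F) • y := fun y hy => by
      have h1 : (Matrix.toLin' x.1.1).restrict (hWinv x) = 1 :=
        (LinearMap.toMatrixAlgEquiv B).injective (hx1.trans (map_one _).symm)
      rw [one_smul]
      exact congrArg Subtype.val (LinearMap.congr_fun h1 ⟨y, hy⟩)
    obtain ⟨-, s, hs⟩ := x.2
    have heq : ∀ y, x.1.1 *ᵥ y = (1 : Mn) *ᵥ y + ((s - 1) * (φ1 ⬝ᵥ y / φ1 ⬝ᵥ c1)) • c1 := fun y => by
      rw [act_mod hC1.1 hs hid y, one_smul, Matrix.one_mulVec]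
    have hmat : x.1.1 = 1 + vecMulVec c1 (((s - 1) / φ1 ⬝ᵥ c1) • φ1) := by
      refine Matrix.toLin'.injective (LinearMap.ext fun y => ?_)
      rw [Matrix.toLin'_apply, Matrix.toLin'_apply, heq, Matrix.add_mulVec, vecMulVec_mulVec,
        op_smul_eq_smul, smul_dotProduct, smul_eq_mul]
      congr 2
      ring
    have hs1 : s = 1 := by
      have hdet := x.1.2
      rw [hmat, vecMulVec_eq Unit, Matrix.det_one_add_replicateCol_mul_replicateRow, smul_dotProduct,
        smul_eq_mul, div_mul_cancel₀ _ hC1.1] at hdet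
      linear_combination hdet
    apply Subtype.ext
    apply Subtype.ext
    rw [hmat, hs1, sub_self, zero_div, zero_smul, vecMulVec_zero, add_zero]
    rfl
  have hHdvd : Nat.card H ∣ (q - 1) ^ 2 * (q + 1) := by
    have h1 := Subgroup.card_dvd_of_injective _ hρ
    rw [Matrix.card_GL_field, Fin.prod_univ_two, ← hq] at h1
    have h2 : (q ^ 2 - q ^ 0) * (q ^ 2 - q ^ 1) = q * ((q - 1) ^ 2 * (q + 1)) := by
      zify [hq2.le, Nat.one_le_pow 2 _ (by omega : 0 < q), Nat.le_self_pow (by norm_num : (2 : ℕ) ≠ 0) q,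
        show q ^ 0 ≤ q ^ 2 from Nat.pow_le_pow_right (by omega) (by omega),
        show q ^ 1 ≤ q ^ 2 from Nat.pow_le_pow_right (by omega) (by omega)]
      ring
    simp only [Fin.val_zero, Fin.val_one] at h1
    rw [h2] at h1
    refine Nat.Coprime.dvd_of_dvd_mul_left ?_ h1
    rw [hn]
    refine Nat.Coprime.pow_right _ ((Nat.Prime.coprime_iff_not_dvd hpr).2 fun hd => hpM ?_).symm
    exact hd.trans (Subgroup.card_dvd_of_le hHM)
  -- every vector is a centre
  have hcen : ∀ v : V, v ≠ 0 → ∃ φ, Cen M v φ := by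
    let f : (↥M ⧸ H.subgroupOf M) × Fˣ → {v : V // v ≠ 0} := fun x =>
      ⟨(x.2 : F) • (x.1.out.1.1 *ᵥ c1), smul_ne_zero x.2.ne_zero fun h0 => hC1.ne_zero (by
        rw [← Matrix.one_mulVec c1, ← val_inv_mul' x.1.out.1, ← Matrix.mulVec_mulVec, h0,
          Matrix.mulVec_zero])⟩
    have hinj : Function.Injective f := by
      rintro ⟨x, s⟩ ⟨y, t⟩ he
      have he' : (s : F) • (x.out.1.1 *ᵥ c1) = (t : F) • (y.out.1.1 *ᵥ c1) := congrArg Subtype.val he
      have hxy : x = y := by
        rw [← QuotientGroup.out_eq' x, ← QuotientGroup.out_eq' y, QuotientGroup.eq]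
        refine Subgroup.mem_subgroupOf.2 ⟨(x.out⁻¹ * y.out).2, (s : F) * (t : F)⁻¹, ?_⟩
        show ((x.out.1⁻¹).1 * y.out.1.1) *ᵥ c1 = _
        rw [← Matrix.mulVec_mulVec, show y.out.1.1 *ᵥ c1 = ((s : F) * (t : F)⁻¹) • (x.out.1.1 *ᵥ c1) by
          rw [mul_comm, mul_smul, he', smul_smul, inv_mul_cancel₀ t.ne_zero, one_smul],
          Matrix.mulVec_smul, Matrix.mulVec_mulVec, val_inv_mul', Matrix.one_mulVec]
      subst hxy
      refine Prod.ext rfl (Units.ext ?_)
      have h0 : x.out.1.1 *ᵥ c1 ≠ 0 := fun h0 => hC1.ne_zero (by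
        rw [← Matrix.one_mulVec c1, ← val_inv_mul' x.out.1, ← Matrix.mulVec_mulVec, h0,
          Matrix.mulVec_zero])
      exact smul_left_injective F h0 he'
    have hsurj : Function.Surjective f := by
      refine (hinj.bijective_of_nat_card_le ?_).2
      have hV : Nat.card {v : V // v ≠ 0} = q ^ 3 - 1 := by
        rw [Nat.card_eq_fintype_card, Fintype.card_subtype_compl, Fintype.card_subtype_eq, Fintype.card_fun,
          Fintype.card_fin, hq]
      rw [hV, Nat.card_prod, Nat.card_units, Nat.card_eq_fintype_card (α := F), ← hq]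
      have hidx : q ^ 2 + q + 1 ≤ (H.subgroupOf M).index := by
        have h1 := (H.subgroupOf M).card_mul_index
        rw [hcard, Nat.card_congr (Subgroup.subgroupOfEquivOfLe hHM).toEquiv] at h1
        have hpos : 0 < (q - 1) ^ 2 * (q + 1) := Nat.mul_pos (pow_pos (by omega) 2) (by omega)
        refine Nat.le_of_mul_le_mul_left ?_ hpos
        calc (q - 1) ^ 2 * (q + 1) * (q ^ 2 + q + 1) = Nat.card H * (H.subgroupOf M).index := by
              rw [h1]; ring
          _ ≤ _ := Nat.mul_le_mul_right _ (Nat.le_of_dvd hpos hHdvd)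
      refine le_trans (le_of_eq ?_) (Nat.mul_le_mul_right _ hidx)
      zify [hq2.le, Nat.one_le_pow 3 _ (by omega : 0 < q)]
      ring
    intro v hv
    obtain ⟨⟨x, s⟩, hx⟩ := hsurj ⟨v, hv⟩
    refine ⟨φ1 ᵥ* ((x.out.1)⁻¹).1, ?_⟩
    rw [show v = (s : F) • (x.out.1.1 *ᵥ c1) from (congrArg Subtype.val hx).symm]
    exact (hC1.conj x.out.2).smul s.ne_zero
  choose φ hφ using hcen
  -- symmetry
  have hsym : ∀ c c' (hc : c ≠ 0) (hc' : c' ≠ 0), φ c hc ⬝ᵥ c' = 0 → φ c' hc' ⬝ᵥ c = 0 := by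
    intro c c' hc hc' h0
    by_contra hne
    obtain ⟨hd, g, hg, a, b, hab, hgc, hgx⟩ := hφ c hc
    have hC' := hφ c' hc'
    have ha0 : a ≠ 0 := fun h => by
      refine hc' ?_
      rw [← Matrix.one_mulVec c', ← val_inv_mul' g, ← Matrix.mulVec_mulVec, hgx c' h0, h, zero_smul,
        Matrix.mulVec_zero]
    have h2 := (hC'.conj hg).smul (inv_ne_zero ha0)
    rw [hgx c' h0, smul_smul, inv_mul_cancel₀ ha0, one_smul] at h2
    have hinv : ∀ y, φ c' hc' ⬝ᵥ y = 0 → φ c' hc' ⬝ᵥ (g.1 *ᵥ y) = 0 := fun y hy => by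
      rw [Cen.axis_unique hpM hC' h2, ← dotProduct_mulVec, Matrix.mulVec_mulVec, val_inv_mul',
        Matrix.one_mulVec]
      exact hy
    have hsub : ∀ y, φ c' hc' ⬝ᵥ y = 0 → φ c hc ⬝ᵥ y = 0 := fun y hy => by
      refine perp_of_eigen hd hab hgc hgx ?_
      have := hinv y hy
      rw [act_mod hd hgc hgx y, dotProduct_add, dotProduct_smul, dotProduct_smul, hy, smul_zero,
        zero_add, smul_eq_zero] at this
      rw [act_mod hd hgc hgx y, this.resolve_right hne, zero_smul, add_zero]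
    -- equal kernels
    refine hC'.1 ?_
    have hk := hsub (c - (φ c' hc' ⬝ᵥ c / φ c' hc' ⬝ᵥ c') • c') (by
      rw [dotProduct_sub, dotProduct_smul, smul_eq_mul, div_mul_cancel₀ _ hC'.1, sub_self])
    rw [dotProduct_sub, dotProduct_smul, h0, smul_zero, sub_zero] at hk
    exact absurd hk hd
  -- the incidence matrix
  let I := {v : V // v ≠ 0}
  let A : Matrix I I (ZMod p) := Matrix.of fun x y => if φ x.1 x.2 ⬝ᵥ y.1 = 0 then 1 else 0
  have hqp : ((q : ℕ) : ZMod p) = 0 := by
    rw [hn, Nat.cast_pow, ZMod.natCast_self, zero_pow n.pos.ne']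
  have hsquare : A * A = Matrix.of fun _ _ => (-1 : ZMod p) := by
    ext x y
    let P : V →ₗ[F] F × F := (dotProductEquiv F (Fin 3) (φ x.1 x.2)).prod (dotProductEquiv F (Fin 3) (φ y.1 y.2))
    have hk : 1 ≤ finrank F (LinearMap.ker P) := by
      have h1 := LinearMap.finrank_range_add_finrank_ker P
      have h2 := Submodule.finrank_le (LinearMap.range P)
      rw [Module.finrank_prod, Module.finrank_self] at h2
      rw [Module.finrank_fin_fun] at h1
      omega
    have hterm : ∀ z : I, A x z * A z y = if z.1 ∈ LinearMap.ker P then 1 else 0 := fun z => by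
      have hs : φ z.1 z.2 ⬝ᵥ y.1 = 0 ↔ φ y.1 y.2 ⬝ᵥ z.1 = 0 := ⟨hsym _ _ _ _, hsym _ _ _ _⟩
      have hm : z.1 ∈ LinearMap.ker P ↔ φ x.1 x.2 ⬝ᵥ z.1 = 0 ∧ φ y.1 y.2 ⬝ᵥ z.1 = 0 := by
        simp [P, Prod.ext_iff]
      simp only [A, Matrix.of_apply, hs, hm]
      split_ifs <;> simp_all
    rw [Matrix.mul_apply, Finset.sum_congr rfl (fun z _ => hterm z), Finset.sum_boole, Matrix.of_apply,
      ← Fintype.card_subtype,
      Fintype.card_congr (Equiv.subtypeSubtypeEquivSubtypeInter (fun v : V => v ≠ 0) (fun v => v ∈ LinearMap.ker P)),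
      show Fintype.card {v : V // v ≠ 0 ∧ v ∈ LinearMap.ker P} = q ^ finrank F (LinearMap.ker P) - 1 by
        rw [hq, ← (Module.card_eq_pow_finrank (K := F) : Fintype.card (LinearMap.ker P) = _),
          ← Fintype.card_subtype_eq (0 : LinearMap.ker P), ← Fintype.card_subtype_compl]
        exact Fintype.card_congr
          { toFun := fun v => ⟨⟨v.1, v.2.2⟩, fun h => v.2.1 (congrArg Subtype.val h)⟩
            invFun := fun v => ⟨v.1.1, fun h => v.2 (Subtype.ext h), v.1.2⟩
            left_inv := fun v => rfl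
            right_inv := fun v => rfl },
      Nat.cast_sub (Nat.one_le_pow _ _ (by omega)), Nat.cast_pow, hqp,
      zero_pow (by omega : finrank F (LinearMap.ker P) ≠ 0), Nat.cast_one, zero_sub]
  set J : Matrix I I (ZMod p) := Matrix.of fun _ _ => (1 : ZMod p) with hJ
  have hAJ : A * J = -J := by
    ext x y
    have := congrFun (congrFun hsquare x) x
    rw [Matrix.mul_apply, Matrix.of_apply] at this
    rw [Matrix.mul_apply, Matrix.neg_apply, hJ, Matrix.of_apply, ← this]
    refine Finset.sum_congr rfl fun z _ => ?_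
    have hs : φ z.1 z.2 ⬝ᵥ x.1 = 0 ↔ φ x.1 x.2 ⬝ᵥ z.1 = 0 := ⟨hsym _ _ _ _, hsym _ _ _ _⟩
    simp only [A, Matrix.of_apply, hs, mul_one]
    split_ifs <;> simp
  have hpow : ∀ k, A ^ (k + 2) = (-1 : ZMod p) ^ (k + 1) • J := by
    intro k
    induction k with
    | zero =>
      rw [pow_two, hsquare]
      ext x y
      simp [hJ]
    | succ k ih =>
      rw [show k + 1 + 2 = (k + 2) + 1 by ring, pow_succ', ih, Matrix.mul_smul, hAJ, smul_neg,
        pow_succ (-1 : ZMod p) (k + 1), mul_neg_one, neg_smul]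
  have hpk : p - 2 + 2 = p := Nat.sub_add_cancel hpr.two_le
  have h1 : Matrix.trace (A ^ p) = 0 := by
    rw [ZMod.trace_pow_card, show Matrix.trace A = 0 from Finset.sum_eq_zero fun x _ => by
      simp [A, (hφ x.1 x.2).1], zero_pow hpr.pos.ne']
  have h2 := hpow (p - 2)
  rw [hpk] at h2
  rw [h2, Matrix.trace_smul, smul_eq_mul, mul_eq_zero] at h1
  rcases h1 with h1 | h1
  · exact pow_ne_zero _ (neg_ne_zero.2 one_ne_zero) h1
  · rw [Matrix.trace, hJ] at h1
    simp only [Matrix.diag, Matrix.of_apply, Finset.sum_const, nsmul_one, Finset.card_univ] at h1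
    rw [show Fintype.card I = q ^ 3 - 1 by
      rw [Fintype.card_subtype_compl, Fintype.card_subtype_eq, Fintype.card_fun, Fintype.card_fin, hq],
      Nat.cast_sub (Nat.one_le_pow _ _ (by omega)), Nat.cast_pow, hqp] at h1
    simp at h1

/-- An overgroup of the normaliser is trivial. -/
theorem eq_or_eq_top (hK : IsFieldSubalgebra 3 K) (hq4 : Fintype.card F ≠ 4) (hM : NS K ≤ M) :
    M = NS K ∨ M = ⊤ := by
  obtain ⟨p, hp⟩ := CharP.exists F
  obtain ⟨n, hpr, hn⟩ := FiniteField.card F p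
  haveI := Fact.mk hpr
  have hq2 := Fintype.one_lt_card (α := F)
  set q := Fintype.card F with hq
  set D := ((NS K).subgroupOf M).index with hD
  set b := M.index with hb
  have hNS := (card_NS hK).1
  rw [card_T hK, ← hq] at hNS
  have hMcard : Nat.card M = 3 * (q ^ 2 + q + 1) * D := by
    rw [← ((NS K).subgroupOf M).card_mul_index, Nat.card_congr (Subgroup.subgroupOfEquivOfLe hM).toEquiv, hNS]
  have hDb : 3 * (D * b) = q ^ 3 * (q - 1) ^ 2 * (q + 1) := by
    have h := M.card_mul_index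
    rw [hMcard, card_SL_three, ← hq, ← hb] at h
    refine Nat.eq_of_mul_eq_mul_left (show 0 < q ^ 2 + q + 1 by omega) ?_
    calc (q ^ 2 + q + 1) * (3 * (D * b)) = 3 * (q ^ 2 + q + 1) * D * b := by ring
      _ = _ := h
      _ = _ := by
        zify [hq2.le, Nat.one_le_pow 3 _ (by omega : 0 < q), Nat.one_le_pow 2 _ (by omega : 0 < q)]
        ring
  set C := ((Subgroup.center SL).subgroupOf (T K))
  have hm : (if q % 3 = 1 then 3 else 1) * C.index = q ^ 2 + q + 1 := by
    have h := C.card_mul_index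
    rw [card_T hK, ← hq, Nat.card_congr (Subgroup.subgroupOfEquivOfLe (center_le_T K)).toEquiv,
      SLCard.card_SL_center (by norm_num), ← hq] at h
    rw [← h]
    congr 1
    split_ifs with h3
    · exact (Nat.gcd_eq_left (by omega)).symm
    · exact Eq.symm ((Nat.Prime.coprime_iff_not_dvd (by norm_num)).2 (by omega) : Nat.Coprime 3 (q - 1))
  have ha : D ≡ 1 [MOD C.index] := index_modEq hK hM
  have hab : D * b ≡ 1 [MOD C.index] := by
    have h := index_modEq hK (M := ⊤) le_top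
    rw [show ((NS K).subgroupOf ⊤).index = (NS K).index from Subgroup.relIndex_top_right _] at h
    rwa [show D * b = (NS K).index from Subgroup.relIndex_mul_index hM]
  have hb1 : b ≡ 1 [MOD C.index] := by
    have := (ha.mul_right b).symm.trans hab
    rwa [one_mul] at this
  rcases solve hq2 hq4 card_ne_ten rfl hm hDb ha hb1 with e | e | e | e
  · left
    refine le_antisymm ?_ hM
    rw [hD, Subgroup.index_eq_one, Subgroup.subgroupOf_eq_top] at e
    exact e
  · right
    exact Subgroup.index_eq_one.1 e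
  · right
    refine eq_top_of_unipotent hK hM (p := p) fun hd => ?_
    rw [← hb] at hd
    have h1 : 3 * b = (q - 1) ^ 2 * (q + 1) := by
      rw [e] at hDb
      exact Nat.eq_of_mul_eq_mul_left (pow_pos (by omega) 3 : 0 < q ^ 3) (by rw [← mul_assoc _ ((q - 1) ^ 2), ← hDb]; ring)
    have h2 : p ∣ (q - 1) ^ 2 * (q + 1) := h1 ▸ dvd_mul_of_dvd_right hd 3
    have hpq : p ∣ q := hn ▸ dvd_pow_self p n.pos.ne'
    rcases hpr.dvd_mul.1 h2 with h | h
    · have := Nat.dvd_sub hpq (hpr.dvd_of_dvd_pow h)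
      rw [show q - (q - 1) = 1 by omega] at this
      exact hpr.not_dvd_one this
    · have := Nat.dvd_sub h hpq
      rw [show q + 1 - q = 1 by omega] at this
      exact hpr.not_dvd_one this
  · by_cases hD1 : D = 1
    · left
      refine le_antisymm ?_ hM
      rw [hD, Subgroup.index_eq_one, Subgroup.subgroupOf_eq_top] at hD1
      exact hD1
    exfalso
    have hb3 : b = q ^ 3 := by
      have h : (q + 1) * (q - 1) ^ 2 * b = q ^ 3 * (q - 1) ^ 2 * (q + 1) := by rw [← e, mul_assoc, hDb]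
      refine Nat.eq_of_mul_eq_mul_left (Nat.mul_pos (by omega) (pow_pos (by omega) 2) : 0 < (q + 1) * (q - 1) ^ 2) (h.trans (by ring))
    have hMc : Nat.card M = (q ^ 2 + q + 1) * ((q + 1) * (q - 1) ^ 2) := by rw [hMcard, ← e]; ring
    have hpq : p ∣ q := hn ▸ dvd_pow_self p n.pos.ne'
    have hp1 : ∀ x, p ∣ x → x = q + 1 ∨ x = q - 1 ∨ x = q * (q + 1) + 1 → False := by
      rintro x hx (rfl | rfl | rfl)
      · have := Nat.dvd_sub hx hpq
        rw [show q + 1 - q = 1 by omega] at this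
        exact hpr.not_dvd_one this
      · have := Nat.dvd_sub hpq hx
        rw [show q - (q - 1) = 1 by omega] at this
        exact hpr.not_dvd_one this
      · exact hpr.not_dvd_one ((Nat.dvd_add_right (dvd_mul_of_dvd_left hpq _)).1 hx)
    have hpM : ¬ p ∣ Nat.card M := fun hd => by
      rw [hMc] at hd
      rcases hpr.dvd_mul.1 hd with h | h
      · exact hp1 _ h (Or.inr (Or.inr (by ring)))
      rcases hpr.dvd_mul.1 h with h | h
      · exact hp1 _ h (Or.inl rfl)
      · exact hp1 _ (hpr.dvd_of_dvd_pow h) (Or.inr (Or.inl rfl))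
    obtain ⟨r, hrp, hr3, hrq⟩ : ∃ r, r.Prime ∧ r ≠ 3 ∧ r ∣ q - 1 := by
      by_contra hn'
      push Not at hn'
      have hodd : ¬ 2 ∣ q - 1 := fun h => hn' 2 Nat.prime_two (by norm_num) h
      obtain ⟨k, hk⟩ : ∃ k, q - 1 = 3 ^ k := ⟨_, Nat.eq_prime_pow_of_unique_prime_dvd (by omega)
        fun {d} hd hdq => by_contra fun h3 => hn' d hd h3 hdq⟩
      have hp2 : p = 2 := ((Nat.prime_dvd_prime_iff_eq Nat.prime_two hpr).1
        (Nat.prime_two.dvd_of_dvd_pow (hn ▸ (by omega : 2 ∣ q)))).symm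
      have h8 : ∀ k, 3 ^ k % 8 = 1 ∨ 3 ^ k % 8 = 3 := fun k => by
        induction k with
        | zero => simp
        | succ k ih => rw [pow_succ, Nat.mul_mod]; rcases ih with h | h <;> simp [h]
      subst hp2
      have hn3 : (n : ℕ) < 3 := by
        by_contra h
        have : 8 ∣ q := hn ▸ pow_dvd_pow 2 (by omega : 3 ≤ (n : ℕ))
        rcases h8 k with e' | e' <;> omega
      interval_cases hn' : (n : ℕ)
      · exact absurd hn' n.pos.ne'
      · rw [show q = 2 by simpa using hn] at e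
        simp at e
        omega
      · exact hq4 (by simpa using hn)
    haveI := Fact.mk hrp
    refine false_of_small hK hpM hMc hr3 hrq ?_
    rw [← hb, hb3]
    intro hd
    have := Nat.dvd_sub (hrp.dvd_of_dvd_pow hd) hrq
    rw [show q - (q - 1) = 1 by omega] at this
    exact hrp.not_dvd_one this

/-- Cubic-field normalisers are maximal in `SL_3`. -/
theorem sl_cubic_maximal_three (hK : IsFieldSubalgebra 3 K) (hq4 : Fintype.card F ≠ 4) :
    IsMaximalIn (specialLinear (Fin 3) F) (subalgebraNormalizer K ⊓ specialLinear (Fin 3) F) := by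
  have hnot : ¬ specialLinear (Fin 3) F ≤ subalgebraNormalizer K :=
    CfsgLib.Aschbacher.not_le_subalgebraNormalizer hK (by norm_num) (by simp)
  refine ⟨lt_of_le_of_ne inf_le_right fun e => hnot (e ▸ inf_le_left), fun G hG hGS => ?_⟩
  rcases eq_or_eq_top (M := G.comap Matrix.SpecialLinearGroup.toGL) hK hq4 (fun g hg =>
    hG ⟨hg, Units.ext g.2⟩) with h | h
  · refine Or.inl (le_antisymm (le_inf (fun g hg => ?_) hGS) hG)
    obtain ⟨gs, hgs, hgse⟩ := exists_sl_of hGS hg
    rw [h] at hgs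
    rw [show g = Matrix.SpecialLinearGroup.toGL gs from Units.ext hgse.symm]
    exact hgs
  · exact Or.inr (le_antisymm hGS (specialLinear_le_of_top h))

end CfsgLib.MaxSub.SLThree.Cubic
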